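import Groth.Agent.Lib.BlowPt28.Push
import Groth.Agent.Lib.Snapper.PushTop
import Groth.Agent.Lib.RpushSupp20.Main
import Groth.Agent.Lib.Euler.GenericCompare
import Groth.Agent.Lib.Euler.Vanish
import Groth.Agent.Lib.Euler.Slope2
import Groth.Agent.Lib.SurfRR28.Proper
import Groth.Agent.Lib.PushKR17.Acy

/-!
# Euler characteristics under morphisms that are isomorphisms off finitely many points
-/

universe u

set_option autoImplicit false
set_option linter.all false
set_option backward.isDefEq.respectTransparency false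
set_option maxHeartbeats 1000000

open CategoryTheory CategoryTheory.Limits AlgebraicGeometry TopologicalSpace

noncomputable section

namespace GrothLib.BiratEuler12

open GrothLib.QCoh (stalkLin)
open GrothLib.Euler (tF)

variable (k : Type u) [Field k] {X Y : Scheme.{u}} [X.Over (Spec (CommRingCat.of k))]
  [Y.Over (Spec (CommRingCat.of k))] [IsProper (X ↘ Spec (CommRingCat.of k))]
  [IsProper (Y ↘ Spec (CommRingCat.of k))] (φ : Y ⟶ X)
  (hφ : φ ≫ X ↘ Spec (CommRingCat.of k) = Y ↘ Spec (CommRingCat.of k))
  (U : X.Opens) (hU : ((U : Set X)ᶜ).Finite) [IsIso (φ ∣_ U)] [IsIntegral X] [IsIntegral Y]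

include hφ hU in
/-- Higher direct images are supported on the exceptional set. -/
theorem rpush_support [HasInjectiveResolutions Y.Modules] (i : ℕ) (hi : 0 < i) {x : X} (hx : x ∈ U) :
    x ∉ CohB1.support ((Coh.Rpush φ i).obj (Coh.structureModule Y)) := by
  haveI := Euler.isNoetherian_of_proper (X := X) k
  haveI := Euler.isNoetherian_of_proper (X := Y) k
  haveI : IsProper (φ ≫ X ↘ Spec (CommRingCat.of k)) := by rw [hφ]; infer_instance
  haveI : IsProper φ := IsProper.of_comp φ (X ↘ Spec (CommRingCat.of k))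
  have hfin : (φ.base ⁻¹' {x}).Finite := by
    refine Set.Subsingleton.finite fun a ha b hb => ?_
    have haU : a ∈ φ ⁻¹ᵁ U := show φ.base a ∈ U from (Set.mem_singleton_iff.1 ha).symm ▸ hx
    have hbU : b ∈ φ ⁻¹ᵁ U := show φ.base b ∈ U from (Set.mem_singleton_iff.1 hb).symm ▸ hx
    have hinj := (φ ∣_ U).isOpenEmbedding.injective
    have h := @hinj ⟨a, haU⟩ ⟨b, hbU⟩ (Subtype.ext (by
      have h1 : ((φ ∣_ U) ⟨a, haU⟩).1 = φ.base a := congrArg (fun f => f ⟨a, haU⟩) (congrArg (fun g : _ ⟶ X => g.base) (morphismRestrict_ι φ U))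
      have h2 : ((φ ∣_ U) ⟨b, hbU⟩).1 = φ.base b := congrArg (fun f => f ⟨b, hbU⟩) (congrArg (fun g : _ ⟶ X => g.base) (morphismRestrict_ι φ U))
      rw [h1, h2, Set.mem_singleton_iff.1 ha, Set.mem_singleton_iff.1 hb]))
    exact congrArg Subtype.val h
  intro hxs
  obtain ⟨e⟩ := Groth.Agent.S11319.result φ (Coh.structureModule Y) i
  exact hxs (AddCommGrpCat.subsingleton_of_isZero ((Groth.Agent.S0037.result φ x hfin (Coh.structureModule Y)
    (Euler.isCoh_of_isInvertible Euler.isInvertible_structure) i hi).of_iso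
      ((TopCat.Presheaf.stalkFunctor AddCommGrpCat.{u} x).mapIso ((sheafToPresheaf _ _).mapIso e))))

include hφ hU in
/-- The defect `χ(L) - χ(O)` is unchanged by pulling back. -/
theorem euler_pullback_sub {L : X.Modules} (hL : PicF.IsInvertible L) :
    Curv2.euler k Y ((Scheme.Modules.pullback φ).obj L) - Curv2.euler k Y (Coh.structureModule Y) =
      Curv2.euler k X L - Curv2.euler k X (Coh.structureModule X) := by
  classical
  haveI := Euler.isNoetherian_of_proper (X := X) k
  haveI := Euler.isNoetherian_of_proper (X := Y) k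
  haveI : IsProper (φ ≫ X ↘ Spec (CommRingCat.of k)) := by rw [hφ]; infer_instance
  haveI : IsProper φ := IsProper.of_comp φ (X ↘ Spec (CommRingCat.of k))
  letI := RpushSupp20.hasInjectiveResolutions Y
  have hcl : ∀ x ∈ ((U : Set X)ᶜ), IsClosed ({x} : Set X) := fun x hx =>
    SurfRR28.isClosed_singleton_of_finite k U.isOpen.isClosed_compl hU hx
  have hO : PicF.IsInvertible (Coh.structureModule X) := Euler.isInvertible_structure
  have hOY : Coh.IsCoh (Coh.structureModule Y) := Euler.isCoh_of_isInvertible Euler.isInvertible_structure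
  have hr := Euler.isFinLocFreeOfRank_one_of_invertible hL
  let R := fun i => (Coh.Rpush φ i).obj (Coh.structureModule Y)
  have hR : ∀ i, Coh.IsCoh (R i) := fun i => Cohom.isCoh_Rpush φ _ hOY i
  obtain ⟨M₀, hM₀⟩ := Snapper.exists_euler_pullback_eq_sum (g := φ) hφ
  have h1 := hM₀ L (Euler.isFinLocFree_of_isInvertible hL)
  have h2 := hM₀ (Coh.structureModule X) (Euler.isFinLocFree_of_isInvertible hO)
  rw [Euler.euler_of_iso k (Ample.nonempty_pullback_structureModule φ).some] at h2
  have hterm : ∀ i, Curv2.euler k X ((tF L).obj (R i)) - Curv2.euler k X ((tF (Coh.structureModule X)).obj (R i)) =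
      if i = 0 then Curv2.euler k X L - Curv2.euler k X (Coh.structureModule X) else 0 := by
    intro i
    rw [Euler.euler_of_iso k (Euler.tFUnitIso (R i))]
    rcases Nat.eq_zero_or_pos i with rfl | hi
    · rw [if_pos rfl]
      let e0 : R 0 ≅ (Scheme.Modules.pushforward φ).obj (Coh.structureModule Y) :=
        (Scheme.Modules.pushforward φ).rightDerivedZeroIsoSelf.app _
      have hb : ∀ x, x ∉ (U : Set X)ᶜ → Function.Bijective (stalkLin (ClSub.unitToPush φ ≫ e0.inv) x) := by
        intro x hx
        rw [show (stalkLin (ClSub.unitToPush φ ≫ e0.inv) x : _ → _) =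
          stalkLin e0.inv x ∘ stalkLin (ClSub.unitToPush φ) x from funext fun v => by rw [QCoh.stalkLin_comp]; rfl]
        refine (Euler.stalkLin_bijective_of_isIso e0.inv x).comp
          (Euler.stalkLin_bijective_of_app_bijective _ (O := U) (Set.notMem_compl_iff.1 hx) fun T hT => ?_)
        exact BlowPt28.bijective_app_of_le φ U (fun T' => inferInstance) hT
      have h := Euler.euler_tF_sub_eq k hr (Euler.isCoh_of_isInvertible hO) (hR 0)
        (ClSub.unitToPush φ ≫ e0.inv) _ hU hcl hb
      rw [Nat.cast_one, one_mul, one_mul,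
        show Curv2.euler k X ((tF L).obj (Coh.structureModule X)) = Curv2.euler k X L from
          Euler.euler_of_iso k (OX.tensorUnitLeftIso L)] at h
      exact h.symm
    · rw [if_neg hi.ne']
      obtain ⟨Z0, hz⟩ : ∃ Z0 : X.Modules, IsZero Z0 := HasZeroObject.zero
      have h := Euler.euler_tF_sub_eq k hr (hR i) (OX.isCoh_of_isZero hz) (0 : R i ⟶ Z0) _ hU hcl fun x hx => by
        haveI : Subsingleton ((R i).presheaf.stalk x) := not_not.1 (rpush_support k φ hφ U hU i hi (Set.notMem_compl_iff.1 hx))
        haveI : Subsingleton (Z0.presheaf.stalk x) :=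
          ModuleCat.isZero_iff_subsingleton.1 ((OX.stalk x).map_isZero hz)
        exact ⟨fun a b _ => Subsingleton.elim a b, fun b => ⟨0, Subsingleton.elim _ b⟩⟩
      rw [Nat.cast_one, one_mul, one_mul, Snapper.euler_eq_zero_of_isZero k hz,
        Snapper.euler_eq_zero_of_isZero k ((tF L).map_isZero hz), sub_zero] at h
      exact h
  rw [h1, h2, ← Finset.sum_sub_distrib]
  rw [Finset.sum_eq_single 0]
  · rw [← mul_sub, hterm 0, if_pos rfl, pow_zero, one_mul]
  · intro i _ hi
    rw [← mul_sub, hterm i, if_neg hi, mul_zero]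
  · intro h
    simp at h

end GrothLib.BiratEuler12
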