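import Groth.Agent.Lib.BiratEuler12.Main
import Groth.Agent.Lib.RLpsi8.FibreVanish
import Groth.Agent.Lib.K0Rank22.Basic
import Groth.Agent.Lib.Euler.Section

/-!
# The first direct image and Euler characteristics of surfaces
-/

universe u

set_option autoImplicit false
set_option linter.all false
set_option backward.isDefEq.respectTransparency false
set_option maxHeartbeats 1000000

open CategoryTheory CategoryTheory.Limits AlgebraicGeometry TopologicalSpace

noncomputable section

namespace GrothLib.BiratEuler12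

variable (k : Type u) [Field k] {X Y : Scheme.{u}} [X.Over (Spec (CommRingCat.of k))]
  [Y.Over (Spec (CommRingCat.of k))] [IsProper (X ↘ Spec (CommRingCat.of k))]
  [IsProper (Y ↘ Spec (CommRingCat.of k))] (φ : Y ⟶ X)
  (hφ : φ ≫ X ↘ Spec (CommRingCat.of k) = Y ↘ Spec (CommRingCat.of k))
  (U : X.Opens) (hU : ((U : Set X)ᶜ).Finite) [IsIso (φ ∣_ U)] [IsIntegral X] [IsIntegral Y]

include hφ hU in
theorem rone_zero_iff (hdim : topologicalKrullDim Y = 2) (hne : (U : Set X).Nonempty)
    (hO : IsIso (ClSub.unitToPush φ)) :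
    IsZero ((Coh.RpushAb φ 1).obj (Coh.toAb (Coh.structureModule Y))) ↔
      Curv2.euler k Y (Coh.structureModule Y) = Curv2.euler k X (Coh.structureModule X) := by
  classical
  haveI := Euler.isNoetherian_of_proper (X := X) k
  haveI := Euler.isNoetherian_of_proper (X := Y) k
  haveI : IsProper (φ ≫ X ↘ Spec (CommRingCat.of k)) := by rw [hφ]; infer_instance
  haveI : IsProper φ := IsProper.of_comp φ (X ↘ Spec (CommRingCat.of k))
  letI := RpushSupp20.hasInjectiveResolutions Y
  haveI : (QCoh.toAbFun X).Faithful := inferInstanceAs (SheafOfModules.toSheaf _).Faithful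
  have hOY : Coh.IsCoh (Coh.structureModule Y) := Euler.isCoh_of_isInvertible Euler.isInvertible_structure
  haveI := hOY.1
  let R := fun i => (Coh.Rpush φ i).obj (Coh.structureModule Y)
  have hiff : ∀ i, IsZero ((Coh.RpushAb φ i).obj (Coh.toAb (Coh.structureModule Y))) ↔ IsZero (R i) := by
    intro i
    obtain ⟨e⟩ := Groth.Agent.S11319.result φ (Coh.structureModule Y) i
    refine ⟨fun h => ?_, fun h => ((QCoh.toAbFun X).map_isZero h).of_iso e.symm⟩
    have h' : IsZero ((QCoh.toAbFun X).obj (R i)) := h.of_iso e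
    rw [IsZero.iff_id_eq_zero] at h' ⊢
    apply (QCoh.toAbFun X).map_injective
    rw [CategoryTheory.Functor.map_id, Functor.map_zero]
    exact h'
  have hcl : ∀ x ∈ ((U : Set X)ᶜ), IsClosed ({x} : Set X) := fun x hx =>
    SurfRR28.isClosed_singleton_of_finite k U.isOpen.isClosed_compl hU hx
  have hsurjU : ∀ x ∈ U, ∃ y, φ.base y = x := fun x hx => by
    obtain ⟨y, hy⟩ := (inferInstance : Surjective (φ ∣_ U)).surj ⟨x, hx⟩
    exact ⟨y.1, (congrArg (fun g : (φ ⁻¹ᵁ U).toScheme ⟶ X => g.base y) (morphismRestrict_ι φ U)).symm.trans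
      (congrArg Subtype.val hy)⟩
  have hfib : ∀ s : X, topologicalKrullDim ↥(φ.fiber s) ≤ ((1 : ℕ) : WithBot ℕ∞) := by
    intro s
    rw [IsHomeomorph.topologicalKrullDim_eq _ (φ.fiberHomeo s).isHomeomorph]
    by_cases hs : s ∈ U
    · haveI : Subsingleton ↥(φ.base ⁻¹' {s}) := by
        refine ⟨fun a b => Subtype.ext ?_⟩
        have haU : a.1 ∈ φ ⁻¹ᵁ U := show φ.base a.1 ∈ U from (Set.mem_singleton_iff.1 a.2).symm ▸ hs
        have hbU : b.1 ∈ φ ⁻¹ᵁ U := show φ.base b.1 ∈ U from (Set.mem_singleton_iff.1 b.2).symm ▸ hs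
        let a' : (φ ⁻¹ᵁ U).toScheme := ⟨a.1, haU⟩
        let b' : (φ ⁻¹ᵁ U).toScheme := ⟨b.1, hbU⟩
        have h1 : ((φ ∣_ U) a').1 = φ.base a.1 :=
          congrArg (fun g : (φ ⁻¹ᵁ U).toScheme ⟶ X => g.base a') (morphismRestrict_ι φ U)
        have h2 : ((φ ∣_ U) b').1 = φ.base b.1 :=
          congrArg (fun g : (φ ⁻¹ᵁ U).toScheme ⟶ X => g.base b') (morphismRestrict_ι φ U)
        have h : a' = b' := (φ ∣_ U).isOpenEmbedding.injective (Subtype.ext (by
          rw [h1, h2, Set.mem_singleton_iff.1 a.2, Set.mem_singleton_iff.1 b.2]))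
        exact (congrArg Subtype.val h : a'.1 = b'.1)
      haveI : Subsingleton (IrreducibleCloseds ↥(φ.base ⁻¹' {s})) := ⟨fun A B => by
        have hA : (A : Set ↥(φ.base ⁻¹' {s})) = Set.univ := Subsingleton.eq_univ_of_nonempty A.isIrreducible.nonempty
        have hB : (B : Set ↥(φ.base ⁻¹' {s})) = Set.univ := Subsingleton.eq_univ_of_nonempty B.isIrreducible.nonempty
        exact SetLike.coe_injective (hA.trans hB.symm)⟩
      exact (Order.krullDim_nonpos_of_subsingleton).trans (by norm_num)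
    · have hclo : IsClosed (φ.base ⁻¹' {s}) := (hcl s hs).preimage φ.continuous
      have hgen : genericPoint Y ∉ φ.base ⁻¹' {s} := by
        intro h
        obtain ⟨x, hx⟩ := hne
        obtain ⟨y, hy⟩ := hsurjU x hx
        have : y ∈ φ.base ⁻¹' {s} := ((genericPoint_spec Y).specializes trivial).mem_closed hclo h
        exact hs ((hy.symm.trans this) ▸ hx)
      have h := K0Rank22.dim_lt_of_subset_closure hclo
        (by rw [(genericPoint_spec Y).def]; exact Set.subset_univ _) hgen 2 (by
          rw [(genericPoint_spec Y).def, IsHomeomorph.topologicalKrullDim_eq _ (Homeomorph.Set.univ Y).isHomeomorph]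
          exact hdim.le)
      rw [show (((2 : ℕ) : WithBot ℕ∞)) = ((1 : ℕ) : WithBot ℕ∞) + 1 from by norm_num] at h
      exact ENat.WithBot.lt_add_one_iff.1 h
  have hzero : ∀ i, 1 < i → IsZero (R i) := fun i hi =>
    (hiff i).1 (RLpsi8.FibreVanish.isZero_RpushAb φ 1 hfib (Coh.structureModule Y) i hi)
  have hsum := Snapper.euler_eq_finsum_Rpush k hφ (Coh.structureModule Y) hOY
  rw [finsum_eq_sum_of_support_subset _ (s := {0, 1}) (fun i hi => by
      by_contra hni
      simp only [Finset.coe_insert, Finset.coe_singleton, Set.mem_insert_iff, Set.mem_singleton_iff, not_or] at hni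
      exact hi (show (-1 : ℤ) ^ i * _ = 0 by rw [Snapper.euler_eq_zero_of_isZero k (hzero i (by omega)), mul_zero])),
    Finset.sum_pair zero_ne_one, pow_zero, one_mul, pow_one, neg_one_mul] at hsum
  haveI := hO
  have h0 : Curv2.euler k X (R 0) = Curv2.euler k X (Coh.structureModule X) :=
    Euler.euler_of_iso k ((Scheme.Modules.pushforward φ).rightDerivedZeroIsoSelf.app _ ≪≫
      (asIso (ClSub.unitToPush φ)).symm)
  rw [hsum, h0, hiff 1]
  have hsub : CohB1.support (R 1) ⊆ (U : Set X)ᶜ := fun x hx hxU => rpush_support k φ hφ U hU 1 one_pos hxU hx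
  have hfin := hU.subset hsub
  have hcl1 : ∀ x ∈ CohB1.support (R 1), IsClosed ({x} : Set X) := fun x hx => hcl x (hsub hx)
  have hR1 : Coh.IsCoh (R 1) := Cohom.isCoh_Rpush φ _ hOY 1
  have he := Euler.euler_eq_of_finite_support k (R 1) hfin hcl1
  refine ⟨fun h => by rw [Snapper.euler_eq_zero_of_isZero k h, neg_zero, add_zero], fun h => ?_⟩
  haveI := Euler.finiteDimensional_HH k hR1 0
  refine Euler.isZero_of_subsingleton_H0 (R 1) hfin hcl1 (Module.finrank_zero_iff (R := k).1 ?_)
  simp only [R] at h he ⊢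
  linarith

end GrothLib.BiratEuler12
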